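import Groth.Agent.Pi1.K260.D1Plan
import Groth.Agent.Sga1.UlaSL

/-!
# Node LOCOF: the local conditions from `ESc`, `FF`, `Faith`

A strict localization of `Z ×_Y Spec A` at a point over the closed point of `A`, where `Spec A` is a strict
localization of `Y ×_S Spec O`, is a strict localization of `Z ×_S Spec O`.
-/

set_option autoImplicit false
set_option linter.unusedSectionVars false
universe u

open CategoryTheory CategoryTheory.Limits AlgebraicGeometry IsLocalRing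

namespace K166.D1LocOf

open Groth.Agent Groth.Agent.Etrest.StrictLoc Groth.Agent.Sga1.UlaSL K868.Bc K260.D1

/-- The range of a base change of the closed point. -/
theorem range_eq {T Ts : Scheme.{u}} {O : Type u} [CommRing O] [IsLocalRing O] {i : Ts ⟶ T}
    {q : Ts ⟶ Spec (CommRingCat.of (ResidueField O))} {g : T ⟶ Spec (CommRingCat.of O)}
    (h : IsPullback i q g (resPt O)) : Set.range i = cf g := by
  ext y
  constructor
  · rintro ⟨z, rfl⟩
    show g (i z) = closedPoint O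
    rw [← Scheme.Hom.comp_apply, h.w, Scheme.Hom.comp_apply]
    exact resPt_closedPoint O _
  · intro hy
    obtain ⟨z, hz, -⟩ := Scheme.exists_preimage_of_isPullback h y (closedPoint (ResidueField O))
      (by
        have h1 : g y = closedPoint O := hy
        rw [h1]
        exact (resPt_closedPoint O _).symm)
    exact ⟨z, hz⟩

variable {X Z Y S : Scheme.{u}} {j : X ⟶ Z} {p : Z ⟶ Y} {b : Y ⟶ S}
  {O A : Type u} [CommRing O] [IsLocalRing O] [CommRing A] [IsLocalRing A]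
  {t : Spec (CommRingCat.of O) ⟶ S} {Y₁ : Scheme.{u}} {c : Y₁ ⟶ Y} {b₁ : Y₁ ⟶ Spec (CommRingCat.of O)}
  {σ : Spec (CommRingCat.of A) ⟶ Y₁} {ZA : Scheme.{u}} {z : ZA ⟶ Z} {pA : ZA ⟶ Spec (CommRingCat.of A)}

/-- The map `Z ×_Y Spec A ⟶ Z ×_Y Y₁`. -/
noncomputable def wm (h2 : IsPullback z pA p (σ ≫ c)) : ZA ⟶ pullback p c :=
  pullback.lift z (pA ≫ σ) (by rw [Category.assoc, h2.w])

theorem wm_fst (h2 : IsPullback z pA p (σ ≫ c)) : wm h2 ≫ pullback.fst p c = z := pullback.lift_fst _ _ _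

theorem wm_snd (h2 : IsPullback z pA p (σ ≫ c)) : wm h2 ≫ pullback.snd p c = pA ≫ σ := pullback.lift_snd _ _ _

theorem isPullback_wm (h2 : IsPullback z pA p (σ ≫ c)) : IsPullback (wm h2) pA (pullback.snd p c) σ := by
  refine IsPullback.of_right ?_ (wm_snd h2) (IsPullback.of_hasPullback p c)
  rw [wm_fst]
  exact h2

theorem weaklyEtale_wm (hσ : IsStrictLoc σ) (h2 : IsPullback z pA p (σ ≫ c)) : WeaklyEtale (wm h2) := by
  have i := weaklyEtale_of_isStrictLoc hσ
  exact MorphismProperty.of_isPullback (P := @WeaklyEtale) (isPullback_wm h2).flip i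

/-- **Node LOCOF.** -/
theorem locOf : K260.D1.LocOf.{u} := by
  intro n X Z Y S j p b hE hF hFa O A _ _ _ _ hO hOs hn t Y₁ c b₁ sqY σ hσ hσc ZA XA Xs z pA sqZ x jA sqX i q sqs
    G _ _ hG
  have sq1 : IsPullback (pullback.fst p c) (pullback.snd p c ≫ b₁) (p ≫ b) t :=
    (IsPullback.of_hasPullback p c).flip.paste_horiz sqY.flip |>.flip
  have hw := weaklyEtale_wm hσ sqZ
  have key : ∀ (D : Type u) [CommRing D] [IsLocalRing D] (σD : Spec (CommRingCat.of D) ⟶ ZA),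
      pA (σD (closedPoint D)) = closedPoint A →
      (pullback.snd p c ≫ b₁) ((σD ≫ wm sqZ) (closedPoint D)) = closedPoint O := by
    intro D _ _ σD hD
    rw [← Scheme.Hom.comp_apply, Category.assoc, ← Category.assoc (wm sqZ), wm_snd, Category.assoc,
      Scheme.Hom.comp_apply, Scheme.Hom.comp_apply, hD, Scheme.Hom.comp_apply, hσc]
  have key2 : ∀ (D : Type u) [CommRing D] [IsLocalRing D] (σD : Spec (CommRingCat.of D) ⟶ ZA)
      ⦃XD : Scheme.{u}⦄ (x' : XD ⟶ XA) (f : XD ⟶ Spec (CommRingCat.of D)), IsPullback x' f jA σD →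
      IsPullback (x' ≫ x) f j ((σD ≫ wm sqZ) ≫ pullback.fst p c) := by
    intro D _ _ σD XD x' f hf
    rw [Category.assoc, wm_fst]
    exact (hf.flip.paste_vert sqX.flip).flip
  have key3 : ∀ (D : Type u) [CommRing D] [IsLocalRing D] (σD : Spec (CommRingCat.of D) ⟶ ZA)
      ⦃XD : Scheme.{u}⦄ (x' : XD ⟶ XA) (f : XD ⟶ Spec (CommRingCat.of D)), IsPullback x' f jA σD →
      f ≫ (σD ≫ wm sqZ) ≫ pullback.snd p c ≫ b₁ = x' ≫ jA ≫ pA ≫ σ ≫ b₁ := by
    intro D _ _ σD XD x' f hf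
    rw [Category.assoc, ← Category.assoc (wm sqZ), wm_snd, ← Category.assoc x', hf.w]
    simp only [Category.assoc]
  constructor
  · intro D _ _ σD hσD hD XD WD x' f hf i' w' hi' P' ρ' hP'
    refine hE O D hO hOs hn t (pullback.fst p c) (pullback.snd p c ≫ b₁) sq1 (σD ≫ wm sqZ) (hσD.comp _)
      (key D σD hD) (x' ≫ x) f (key2 D σD x' f hf) i' (w' ≫ q) ?_ G hG P' ρ' hP'
    rw [key3 D σD x' f hf]
    exact (hi'.flip.paste_horiz sqs.flip).flip
  · intro D _ _ σD hσD hD XD x' f hf P ρ hP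
    have h := hF O D hO hOs (by push_cast; exact hn.mul hn) t (pullback.fst p c) (pullback.snd p c ≫ b₁) sq1
      (σD ≫ wm sqZ) (hσD.comp _) (key D σD hD) (x' ≫ x) f (key2 D σD x' f hf) (G × G)
      (by rw [Nat.card_prod]; exact mul_dvd_mul hG hG) P ρ hP
    rw [key3 D σD x' f hf] at h
    rw [range_eq sqs]
    have e : (P.hom ≫ x') ⁻¹' cf (jA ≫ pA ≫ σ ≫ b₁) = cf (P.hom ≫ x' ≫ jA ≫ pA ≫ σ ≫ b₁) := by
      ext y
      show (jA ≫ pA ≫ σ ≫ b₁) ((P.hom ≫ x') y) = closedPoint O ↔ (P.hom ≫ x' ≫ jA ≫ pA ≫ σ ≫ b₁) y = closedPoint O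
      rw [← Scheme.Hom.comp_apply, Category.assoc]
    rw [e]
    exact h
  · intro D _ _ σD hσD hD XD x' f hf
    have h := hFa O D hO hOs t (pullback.fst p c) (pullback.snd p c ≫ b₁) sq1
      (σD ≫ wm sqZ) (hσD.comp _) (key D σD hD) (x' ≫ x) f (key2 D σD x' f hf)
    rw [key3 D σD x' f hf] at h
    rw [range_eq sqs]
    have e : x' ⁻¹' cf (jA ≫ pA ≫ σ ≫ b₁) = cf (x' ≫ jA ≫ pA ≫ σ ≫ b₁) := by
      ext y
      show (jA ≫ pA ≫ σ ≫ b₁) (x' y) = closedPoint O ↔ (x' ≫ jA ≫ pA ≫ σ ≫ b₁) y = closedPoint O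
      rw [← Scheme.Hom.comp_apply]
    rw [e]
    exact h

end K166.D1LocOf
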